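import Cfsg.Agent.Lib.Helper26.ProjExt
import Cfsg.Agent.Lib.Helper24.CenterDvd
import Cfsg.Agent.Lib.Helper25.Monomial

set_option autoImplicit false

namespace Cfsg.Agent.Lib.Helper26

open Cfsg
open scoped ComplexConjugate

universe u

variable {G : Type u} [Group G]

/-- data of a finite central extension `π : Γ → G` in which the invariant character `ϑ` of `N`
extends (to `ϑ'`), together with the Gallagher factorization of all characters over `ϑ`. -/
structure CExt (N : Subgroup G) [Fintype N] (ϑ : N → ℂ) (Γ : Type u) [Group Γ] (π : Γ →* G) (σ : N →* Γ)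
    (ϑ' : Γ → ℂ) : Prop where
  surj : Function.Surjective π
  central : π.ker ≤ Subgroup.center Γ
  sec : ∀ n, π (σ n) = n
  normal : σ.range.Normal
  irr : IsIrrCharacter Γ ϑ'
  ext : ∀ n, ϑ' (σ n) = ϑ n
  factor : ∀ χ : G → ℂ, IsIrrCharacter G χ → (∑ n : N, χ n * conj (ϑ n)) ≠ 0 →
    ∃ β : Γ → ℂ, IsIrrCharacter Γ β ∧ (∀ n, β (σ n) = β 1) ∧ ∀ γ, χ (π γ) = β γ * ϑ' γ

theorem exists_cext [Finite G] (N : Subgroup G) [hN : N.Normal] [Fintype N] {ϑ : N → ℂ}
    (hϑ : IsIrrCharacter N ϑ)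
    (hinv : ∀ (g : G) (n : N), ϑ ⟨g * n * g⁻¹, hN.conj_mem n n.2 g⟩ = ϑ n) :
    ∃ (Γ : Type u) (_ : Group Γ) (_ : Finite Γ) (π : Γ →* G) (σ : N →* Γ) (ϑ' : Γ → ℂ),
      CExt N ϑ Γ π σ ϑ' := by
  obtain ⟨Γ, _, _, π, σ, ϑ', h1, h2, h3, h4, h5, h6⟩ := exists_central_ext N hϑ hinv
  refine ⟨Γ, inferInstance, inferInstance, π, σ, ϑ', h1, h2, h3, h4, h5, h6, ?_⟩
  intro χ hχ hcon
  classical
  cases nonempty_fintype Γ
  have hσinj : Function.Injective σ := by
    intro a b hab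
    have := congrArg π hab
    rw [h3, h3] at this
    exact Subtype.ext this
  let e : N ≃* σ.range := MonoidHom.ofInjective hσinj
  have he : ∀ n, ((e n : σ.range) : Γ) = σ n := fun n => rfl
  have hres : (fun x : σ.range => ϑ' x) = fun x : σ.range => ϑ (e.symm x) := by
    funext x
    obtain ⟨n, rfl⟩ := e.surjective x
    rw [MulEquiv.symm_apply_apply, he, h6]
  have hresirr : IsIrrCharacter σ.range (fun x : σ.range => ϑ' x) := by
    rw [hres]
    exact Helper25.isIrrCharacter_comp_surjective e.symm.toMonoidHom e.symm.surjective hϑ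
  have hψ : IsIrrCharacter Γ (fun γ => χ (π γ)) :=
    Helper25.isIrrCharacter_comp_surjective π h1 hχ
  have hcon' : classInner (fun x : σ.range => χ (π x)) (fun x : σ.range => ϑ' x) ≠ 0 := by
    rw [← Helper25.classInner_comp_mulEquiv e]
    simp only [he, h3, h6]
    unfold classInner
    exact mul_ne_zero (inv_ne_zero (by exact_mod_cast Nat.card_pos.ne')) hcon
  obtain ⟨β, hβ, hβ1, hβ2⟩ := gallagher_ext σ.range h5 hresirr hψ hcon'
  exact ⟨β, hβ, fun n => hβ1 _ ⟨n, rfl⟩, fun γ => (congrFun hβ2 γ).symm⟩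

namespace CExt

variable {N : Subgroup G} [Fintype N] {ϑ : N → ℂ} {Γ : Type u} [Group Γ] {π : Γ →* G}
  {σ : N →* Γ} {ϑ' : Γ → ℂ}

/-- elements over `N` act as scalars in a representation trivial on `σ N`. -/
lemma scalar_of_mem [Finite Γ] (d : CExt N ϑ Γ π σ ϑ') {m : ℕ}
    (τ : Representation ℂ Γ (Fin m → ℂ)) (hτ : τ.IsIrreducible)
    (hker : ∀ n, τ.character (σ n) = τ.character 1) {a : Γ} (ha : π a ∈ N) :
    ∃ c : ℂ, τ a = c • (1 : Module.End ℂ (Fin m → ℂ)) := by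
  set n : N := ⟨π a, ha⟩ with hn
  have hz : (σ n)⁻¹ * a ∈ π.ker := by
    rw [MonoidHom.mem_ker, map_mul, map_inv, d.sec]
    simp [hn]
  have hzc := d.central hz
  obtain ⟨c, hc⟩ := Helper2.schur τ (τ ((σ n)⁻¹ * a)) (fun g => by
    have h1 := Subgroup.mem_center_iff.mp hzc g
    show τ ((σ n)⁻¹ * a) * τ g = τ g * τ ((σ n)⁻¹ * a)
    rw [← map_mul, ← map_mul, h1])
  have h2 : τ (σ n) = LinearMap.id := by
    rw [← Helper2.char_eq_finrank_iff, hker n, Representation.char_one]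
  refine ⟨c, ?_⟩
  have h3 : a = σ n * ((σ n)⁻¹ * a) := by group
  rw [h3, map_mul, h2, hc]
  rfl

end CExt

/-- invariant case of `χ(1)/ϑ(1) ∣ |G : N|`. -/
theorem degree_ratio_of_invariant [Finite G] (N : Subgroup G) [hN : N.Normal] [Fintype N]
    {ϑ : N → ℂ} (hϑ : IsIrrCharacter N ϑ)
    (hinv : ∀ (g : G) (n : N), ϑ ⟨g * n * g⁻¹, hN.conj_mem n n.2 g⟩ = ϑ n)
    {χ : G → ℂ} (hχ : IsIrrCharacter G χ) (hcon : (∑ n : N, χ n * conj (ϑ n)) ≠ 0) :
    ∃ e : ℕ, χ 1 = e * ϑ 1 ∧ e ∣ N.index := by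
  obtain ⟨Γ, _, _, π, σ, ϑ', d⟩ := exists_cext N hϑ hinv
  obtain ⟨β, ⟨m, τ, hτ, rfl⟩, hβ1, hβ2⟩ := d.factor χ hχ hcon
  refine ⟨m, ?_, ?_⟩
  · have h1 := hβ2 1
    rw [map_one, Representation.char_one, Module.finrank_fin_fun] at h1
    have h2 := d.ext 1
    rw [map_one] at h2
    rw [h1, h2]
  · have h1 := Helper24.finrank_dvd_index_of_scalar τ (N.comap π)
      (fun a ha => d.scalar_of_mem τ hτ hβ1 (Subgroup.mem_comap.mp ha))
    rw [Module.finrank_fin_fun, Subgroup.index_comap_of_surjective N d.surj] at h1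
    exact h1


lemma sum_ne_zero_of_classInner {A : Type u} [Group A] [Fintype A] {a b : A → ℂ}
    (h : classInner a b ≠ 0) : (∑ x : A, a x * conj (b x)) ≠ 0 := by
  intro h0
  apply h
  unfold classInner
  rw [h0, mul_zero]

/-- `χ(1)/ϑ(1)` is an integer dividing `|G : N|` (Isaacs 11.29). -/
theorem degree_ratio [Fintype G] (N : Subgroup G) [hN : N.Normal] [Fintype N]
    {χ : G → ℂ} (hχ : IsIrrCharacter G χ) {ϑ : N → ℂ} (hϑ : IsIrrCharacter N ϑ)
    (hcon : classInner (fun n : N => χ n) ϑ ≠ 0) :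
    ∃ e : ℕ, χ 1 = e * ϑ 1 ∧ e ∣ N.index := by
  classical
  have hcf := Helper7.isClassFunction_of_isCharacter (Helper7.isCharacter_of_irr hϑ)
  have hNT : N ≤ Helper25.inertia N ϑ := Helper25.le_inertia N hcf
  have : Fintype (Helper25.inertia N ϑ) := Fintype.ofFinite _
  obtain ⟨ψ, hψ, hind, hinner⟩ := Helper25.clifford_corr_exists N (Helper25.inertia N ϑ) hϑ
    (Helper25.mem_inertia N ϑ) hNT hχ hcon
  have : Fintype (N.subgroupOf (Helper25.inertia N ϑ)) := Fintype.ofFinite _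
  have hϑ' := Helper25.isIrrCharacter_subgroupOf N hNT hϑ
  have hin := Helper25.classInner_subgroupOf N hNT (fun n : N => ψ ⟨n, hNT n.2⟩) ϑ
  rw [hinner] at hin
  have hin' : classInner (fun x : N.subgroupOf (Helper25.inertia N ϑ) => ψ x)
      (fun x : N.subgroupOf (Helper25.inertia N ϑ) =>
        ϑ ⟨(x : Helper25.inertia N ϑ), Subgroup.mem_subgroupOf.mp x.2⟩) ≠ 0 := by
    intro h0
    exact hcon (hin ▸ h0)
  obtain ⟨e, he1, he2⟩ := degree_ratio_of_invariant (N.subgroupOf (Helper25.inertia N ϑ)) hϑ'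
    (fun t x => (Helper25.mem_inertia N ϑ t).mp t.2 ⟨(x : Helper25.inertia N ϑ),
      Subgroup.mem_subgroupOf.mp x.2⟩) hψ (sum_ne_zero_of_classInner hin')
  refine ⟨(Helper25.inertia N ϑ).index * e, ?_, ?_⟩
  · rw [← hind, Helper25.indFun_one, he1]
    push_cast
    rw [mul_assoc]
    rfl
  · rw [← Subgroup.relIndex_mul_index hNT, mul_comm]
    exact Nat.mul_dvd_mul_right he2 _

end Cfsg.Agent.Lib.Helper26
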