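import Mathlib.GroupTheory.Sylow
import Cfsg.Prelude.Def_Transfer

set_option autoImplicit false

namespace Cfsg.Agent.Lib.Helper26

variable {G : Type*} [Group G]

theorem pResidual_normal (p : ℕ) : (Cfsg.pResidual p G).Normal := by
  constructor
  intro n hn g
  change n ∈ Subgroup.closure {g : G | Nat.Coprime (orderOf g) p} at hn
  change g * n * g⁻¹ ∈ Subgroup.closure {g : G | Nat.Coprime (orderOf g) p}
  induction hn using Subgroup.closure_induction with
  | mem x hx =>
    apply Subgroup.subset_closure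
    have : orderOf (g * x * g⁻¹) = orderOf x := by
      have := orderOf_injective (MulAut.conj g).toMonoidHom (MulAut.conj g).injective x
      simpa using this
    simpa [this] using hx
  | one => simp
  | mul a b _ _ ha hb =>
    have : g * (a * b) * g⁻¹ = (g * a * g⁻¹) * (g * b * g⁻¹) := by group
    rw [this]; exact mul_mem ha hb
  | inv a _ ha =>
    have : g * a⁻¹ * g⁻¹ = (g * a * g⁻¹)⁻¹ := by group
    rw [this]; exact inv_mem ha

theorem mem_pResidual_of_coprime {p : ℕ} {g : G} (h : Nat.Coprime (orderOf g) p) :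
    g ∈ Cfsg.pResidual p G := Subgroup.subset_closure h

theorem exists_pow_mem_pResidual [Finite G] (p : ℕ) [hp : Fact p.Prime] (g : G) :
    ∃ k : ℕ, g ^ (p ^ k) ∈ Cfsg.pResidual p G := by
  have ho : orderOf g ≠ 0 := (orderOf_pos g).ne'
  obtain ⟨k, m, hm, hkm⟩ := Nat.exists_eq_pow_mul_and_not_dvd ho p hp.out.ne_one
  refine ⟨k, mem_pResidual_of_coprime ?_⟩
  have h1 : orderOf (g ^ (p ^ k)) = m := by
    rw [orderOf_pow_of_dvd (pow_ne_zero _ hp.out.ne_zero) (hkm ▸ Dvd.intro _ rfl), hkm]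
    exact Nat.mul_div_cancel_left _ (pow_pos hp.out.pos _)
  rw [h1, Nat.coprime_comm]
  exact (Nat.Prime.coprime_iff_not_dvd hp.out).mpr hm

theorem pResidual_index_eq_pow [Finite G] (p : ℕ) [hp : Fact p.Prime] :
    ∃ k : ℕ, (Cfsg.pResidual p G).index = p ^ k := by
  have := pResidual_normal (G := G) p
  have h : IsPGroup p (G ⧸ Cfsg.pResidual p G) := by
    intro x
    obtain ⟨g, rfl⟩ := QuotientGroup.mk_surjective x
    obtain ⟨k, hk⟩ := exists_pow_mem_pResidual p g
    refine ⟨k, ?_⟩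
    rw [← QuotientGroup.mk_pow]
    exact (QuotientGroup.eq_one_iff _).mpr hk
  exact h.exists_card_eq

theorem pResidual_sup_sylow [Finite G] {p : ℕ} [hp : Fact p.Prime] (P : Sylow p G) :
    Cfsg.pResidual p G ⊔ (P : Subgroup G) = ⊤ := by
  obtain ⟨k, hk⟩ := pResidual_index_eq_pow (G := G) p
  rw [← Subgroup.index_eq_one]
  have h1 : (Cfsg.pResidual p G ⊔ (P : Subgroup G)).index ∣ p ^ k :=
    hk ▸ Subgroup.index_dvd_of_le le_sup_left
  have h2 : (Cfsg.pResidual p G ⊔ (P : Subgroup G)).index ∣ (P : Subgroup G).index :=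
    Subgroup.index_dvd_of_le le_sup_right
  have h3 : Nat.Coprime (p ^ k) (P : Subgroup G).index :=
    Nat.Coprime.pow_left k ((Nat.Prime.coprime_iff_not_dvd hp.out).mpr P.not_dvd_index)
  exact Nat.eq_one_of_dvd_coprimes h3 h1 h2

end Cfsg.Agent.Lib.Helper26
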