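import Cfsg.Agent.Lib.Helper26.FrattiniInd

set_option autoImplicit false

namespace Cfsg.Agent.Lib.Helper26

open Cfsg Cfsg.FusionSystem

variable {Ω : Type*} [Group Ω] {S : Subgroup Ω}

variable [Finite S] {p : ℕ} [Fact p.Prime]

/-- The Frattini induction principle, with the induction hypothesis available when choosing `K`. -/
theorem frattini_induction' (hS : IsPGroup p S) {F : FusionSystem S} (hF : F.IsSaturated p)
    {T : Subgroup Ω} (hT : F.StronglyClosed T)
    (Fam : Subgroup Ω → Prop) (C : Subgroup Ω → (Ω → Ω) → Prop)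
    (hFconj : ∀ P f, Fam P → IsMap F P f → Fam (img P f))
    (hFup : ∀ P, Fam P → P ≤ S → Fam (P ⊔ normalizerIn T P))
    (hCcongr : ∀ P f g, C P f → (∀ x ∈ P, f x = g x) → C P g)
    (hCcomp : ∀ P f g, Fam P → IsMap F P f → IsMap F (img P f) g → C P f → C (img P f) g →
      C P (g ∘ f))
    (hCinv : ∀ P f g, Fam P → IsMap F P f → IsMap F (img P f) g → (∀ x ∈ P, g (f x) = x) →
      C P f → C (img P f) g)
    (hCres : ∀ P Q f, Fam P → Fam Q → Q ≤ P → IsMap F P f → C P f → C Q f)
    (hbase : ∀ P f, Fam P → IsMap F P f → normalizerIn T P ≤ P → C P f)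
    (hK : ∀ U, Fam U → F.IsFullyNormalized U → ¬ normalizerIn T U ≤ U →
      (∀ P' : Subgroup Ω, Nat.card U < Nat.card P' → Fam P' → ∀ f, IsMap F P' f → C P' f) →
      ∃ K : Subgroup (MulAut U), K ≤ F.autGroup U ∧
        F.autGroup U ≤ Subgroup.normalizer (K : Set (MulAut U)) ∧
        autInducedBy T U ≤ K ∧ ∀ κ ∈ K, C U (autFun κ)) :
    ∀ P f, Fam P → IsMap F P f → C P f := by
  have main : ∀ n : ℕ, ∀ P : Subgroup Ω, Nat.card S - Nat.card P = n → Fam P →
      ∀ f, IsMap F P f → C P f := by
    intro n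
    induction n using Nat.strong_induction_on with
    | _ n ih =>
      intro P hn hFamP f hf
      have hPS := hf.le
      have hPc : Nat.card P ≤ Nat.card S := Subgroup.card_le_of_le hPS
      have IH : ∀ P' : Subgroup Ω, Nat.card P < Nat.card P' → Fam P' →
          ∀ f, IsMap F P' f → C P' f := by
        intro P' hlt hFam' g hg
        have : Nat.card P' ≤ Nat.card S := Subgroup.card_le_of_le hg.le
        exact ih (Nat.card S - Nat.card P') (by omega) P' rfl hFam' g hg
      have hTS := hT.1
      have hNTS : ∀ R : Subgroup Ω, normalizerIn T R ≤ normalizerIn S R :=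
        fun R x hx => ⟨hTS hx.1, hx.2⟩
      -- larger subgroup
      have hbig : ∀ R : Subgroup Ω, R ≤ S → ¬ normalizerIn T R ≤ R →
          Nat.card R < Nat.card ↥(R ⊔ normalizerIn T R) := by
        intro R hRS hR
        obtain ⟨g, hg, hgR⟩ := SetLike.not_le_iff_exists.mp hR
        have : Finite ↥(R ⊔ normalizerIn T R) :=
          finite_of_le (sup_le hRS ((hNTS R).trans inf_le_left))
        exact Helper27.card_lt_card_of_le_of_not_mem le_sup_left
          ((le_sup_right : normalizerIn T R ≤ R ⊔ normalizerIn T R) hg) hgR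
      have claimA : ∀ R : Subgroup Ω, R ≤ S → Nat.card R = Nat.card P → Fam R →
          ∀ g, IsMap F (normalizerIn S R) g → C R g := by
        intro R hRS hRc hFamR g hg
        have hRN : R ≤ normalizerIn S R := fun x hx => ⟨hRS hx, Subgroup.le_normalizer hx⟩
        by_cases h : normalizerIn T R ≤ R
        · exact hbase R g hFamR (hg.mono hRN) h
        · have hle : R ⊔ normalizerIn T R ≤ normalizerIn S R := sup_le hRN (hNTS R)
          have h1 := IH _ (hRc ▸ hbig R hRS h) (hFup R hFamR hRS) g (hg.mono hle)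
          exact hCres _ R g (hFup R hFamR hRS) hFamR le_sup_left (hg.mono hle) h1
      by_cases hbaseP : normalizerIn T P ≤ P
      · exact hbase P f hFamP hf hbaseP
      obtain ⟨U, hPU, hU⟩ := Helper27.IsSaturated.exists_fullyNormalized hS hF hPS
      obtain ⟨-, hUaut, hUrec⟩ := Helper27.IsSaturated.fullyNormalized_props hS hF hU
      have hUS := hU.1
      have hfinU : Finite U := finite_of_le hUS
      obtain ⟨χ, hχ, hχN, hχimg⟩ := exists_normalizer_isMap hS hF hU hPU
      have hPN : P ≤ normalizerIn S P := fun x hx => ⟨hPS hx, Subgroup.le_normalizer hx⟩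
      have hP'S : img P f ≤ S := hf.img_le
      have hP'U : F.IsConj (img P f) U :=
        isConj_trans (isConj_symm (isConj_iff.mpr ⟨f, hf, rfl⟩)) hPU
      obtain ⟨χ', hχ', hχ'N, hχ'img⟩ := exists_normalizer_isMap hS hF hU hP'U
      have hP'N : img P f ≤ normalizerIn S (img P f) :=
        fun x hx => ⟨hP'S hx, Subgroup.le_normalizer hx⟩
      have hFamP' : Fam (img P f) := hFconj P f hFamP hf
      have hCχ : C P χ := claimA P hPS rfl hFamP χ hχ
      have hCχ' : C (img P f) χ' := claimA _ hP'S hf.card_img hFamP' χ' hχ'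
      have hχP := hχ.mono hPN
      have hχ'P := hχ'.mono hP'N
      have hFamU : Fam U := hχimg ▸ hFconj P χ hFamP hχP
      have hUc : Nat.card U = Nat.card P := by rw [← hχimg, hχP.card_img]
      have hUnb : ¬ normalizerIn T U ≤ U := by
        intro hle
        obtain ⟨g, hg, hgP⟩ := SetLike.not_le_iff_exists.mp hbaseP
        have h1 : χ g ∈ normalizerIn T U := by
          refine ⟨?_, (hχN g (hNTS P hg)).2⟩
          exact (stronglyClosed_iff.mp hT).2 (normalizerIn T P) inf_le_left χ
            (hχ.mono (hNTS P)) g hg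
        have h2 := hle h1
        rw [← hχimg] at h2
        obtain ⟨x, hx, hxg⟩ := hχP.mem_img.mp h2
        have := hχ.inj (hPN hx) (hNTS P hg) hxg
        exact hgP (this ▸ hx)
      -- Claim B
      have claimB : ∀ α ∈ F.autGroup U, C U (autFun α) := by
        intro α hα
        obtain ⟨K, hKA, hKn, hTK, hKC⟩ := hK U hFamU hU hUnb (fun P' h => IH P' (hUc ▸ h))
        have hSA : autInducedBy S U ≤ F.autGroup U := Helper27.autInducedBy_le_autGroup F hUS
        have hsyl : SylIn p (autInducedBy S U ⊓ K) K := SylIn.inf_of_normal hSA hUaut.2 hKA hKn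
        obtain ⟨κ, hκ, ν, hν, hνN, rfl⟩ := sylIn_frattini inf_le_right hsyl hKA hKn hα
        have hνm : IsMap F U (autFun ν) := (mem_autGroup_iff hUS).mp hν
        obtain ⟨ν', hν', hν'ν⟩ := exists_ext_sup_of_receptive (A := normalizerIn T U) hUrec hνm
          (img_autFun ν) (by
            intro g hg
            refine ⟨hTS hg.1, hg.2, ?_⟩
            have h1 : Helper27.conjAut U g hg.2 ∈ autInducedBy S U ⊓ K :=
              ⟨Helper27.conjAut_mem_autInducedBy (hTS hg.1) hg.2,
                hTK (Helper27.conjAut_mem_autInducedBy hg.1 hg.2)⟩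
            have h2 := (Subgroup.mem_normalizer_iff.mp hνN _).mp h1
            obtain ⟨h, hh, hh2⟩ := mem_autInducedBy_iff.mp h2.1
            refine ⟨h, hh, fun x hx => ?_⟩
            have h3 := hh2 (ν ⟨x, hx⟩)
            rw [autFun_of_mem ν hx, ← h3]
            have hgx : g * x * g⁻¹ ∈ U := (Subgroup.mem_normalizer_iff.mp hg.2 x).mp hx
            rw [autFun_of_mem ν hgx]
            show _ = ((ν (Helper27.conjAut U g hg.2 (ν⁻¹ (ν ⟨x, hx⟩))) : U) : Ω)
            rw [MulAut.inv_apply_self]
            rfl)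
        have hC1 : C _ ν' := IH _ (hUc ▸ hbig U hUS hUnb) (hFup U hFamU hUS) ν' hν'
        have hC2 : C U ν' := hCres _ U ν' (hFup U hFamU hUS) hFamU le_sup_left hν' hC1
        have hC3 : C U (autFun ν) := hCcongr U _ _ hC2 hν'ν
        have hκm : IsMap F U (autFun κ) := (mem_autGroup_iff hUS).mp (hKA hκ)
        have hC4 := hCcomp U (autFun ν) (autFun κ) hFamU hνm (by rw [img_autFun]; exact hκm) hC3
          (by rw [img_autFun]; exact hKC κ hκ)
        refine hCcongr U _ _ hC4 (fun x hx => ?_)
        show autFun κ (autFun ν x) = _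
        rw [autFun_of_mem ν hx, autFun_apply, autFun_of_mem _ hx]
        rfl
      -- assemble
      obtain ⟨χi, hχi, hχi1, hχi2⟩ := hχP.exists_inv
      rw [hχimg] at hχi hχi2
      have hm1 : IsMap F U (f ∘ χi) := hχi.comp hf (fun x hx => by
        have : χi x ∈ img U χi := mem_img_of_mem hx
        rwa [hχi2] at this)
      have hm1img : ∀ x ∈ U, (f ∘ χi) x ∈ img P f := fun x hx => by
        have : χi x ∈ img U χi := mem_img_of_mem hx
        rw [hχi2] at this
        exact mem_img_of_mem this
      have hm2 : IsMap F U (χ' ∘ (f ∘ χi)) := hm1.comp hχ'P hm1img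
      have hm2img : img U (χ' ∘ (f ∘ χi)) = U := by
        apply img_eq_of_le_of_finite hm2
        intro y hy
        obtain ⟨x, hx, rfl⟩ := hm2.mem_img.mp hy
        rw [← hχ'img]
        exact mem_img_of_mem (hm1img x hx)
      obtain ⟨α, hα, hαf⟩ := hm2.exists_aut hm2img
      have hCα := claimB α hα
      have hαm : IsMap F U (autFun α) := (mem_autGroup_iff hUS).mp hα
      have hC5 := hCcomp P χ (autFun α) hFamP hχP (by rw [hχimg]; exact hαm) hCχ
        (by rw [hχimg]; exact hCα)
      have hm5 : IsMap F P (autFun α ∘ χ) := hχP.comp hαm (fun x hx => by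
        rw [← hχimg]; exact mem_img_of_mem hx)
      have himg5 : img P (autFun α ∘ χ) = img (img P f) χ' := by
        rw [hχ'img, hχP.img_comp hαm (fun x hx => by rw [← hχimg]; exact mem_img_of_mem hx),
          hχimg, img_autFun]
      obtain ⟨χ'i, hχ'i, hχ'i1, -⟩ := hχ'P.exists_inv
      have hC6 := hCinv _ χ' χ'i hFamP' hχ'P hχ'i hχ'i1 hCχ'
      have hC7 := hCcomp P (autFun α ∘ χ) χ'i hFamP hm5 (by rw [himg5]; exact hχ'i) hC5
        (by rw [himg5]; exact hC6)
      refine hCcongr P _ _ hC7 (fun x hx => ?_)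
      show χ'i (autFun α (χ x)) = f x
      have hχx : χ x ∈ U := by rw [← hχimg]; exact mem_img_of_mem hx
      rw [autFun_of_mem α hχx, hαf]
      show χ'i (χ' (f (χi (χ x)))) = f x
      rw [hχi1 x hx, hχ'i1 _ (mem_img_of_mem hx)]
  intro P f hFam hf
  exact main _ P rfl hFam f hf

end Cfsg.Agent.Lib.Helper26
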