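import Mathlib.GroupTheory.Focal
import Cfsg.Agent.Lib.Helper26.SubgroupFS
import Cfsg.Agent.Lib.Lead.PRes
import Cfsg.Agent.S5092
import Cfsg.Agent.S5124

set_option autoImplicit false

namespace Cfsg.Agent.Lib.Helper26

open Cfsg Cfsg.FusionSystem

section pgroup

/-- a finite `p`-group generated by a normal subgroup and its derived subgroup equals the normal
subgroup -/
lemma eq_top_of_sup_commutator {T : Type*} [Group T] [Finite T] {p : ℕ} [Fact p.Prime]
    (hT : IsPGroup p T) (N : Subgroup T) [N.Normal] (h : N ⊔ commutator T = ⊤) : N = ⊤ := by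
  have hnil : Group.IsNilpotent (T ⧸ N) := (hT.to_quotient N).isNilpotent
  by_contra hne
  have hnt : Nontrivial (T ⧸ N) := by
    rw [← not_subsingleton_iff_nontrivial]
    intro hs
    exact hne (QuotientGroup.subgroup_eq_top_of_subsingleton N hs)
  have hlt := Group.IsSolvable.commutator_lt_top_of_nontrivial (T ⧸ N)
  apply hlt.ne
  rw [eq_top_iff]
  intro y _
  obtain ⟨t, rfl⟩ := QuotientGroup.mk_surjective y
  have ht : t ∈ ((N ⊔ commutator T : Subgroup T) : Set T) := by rw [h]; trivial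
  rw [Subgroup.normal_mul] at ht
  obtain ⟨n, hn, c, hc, rfl⟩ := ht
  have h1 : ((n * c : T) : T ⧸ N) = (c : T ⧸ N) := by
    rw [QuotientGroup.mk_mul, (QuotientGroup.eq_one_iff n).mpr hn, one_mul]
  rw [h1]
  have h2 : (commutator T).map (QuotientGroup.mk' N) ≤ commutator (T ⧸ N) := by
    rw [commutator_def, commutator_def, Subgroup.map_commutator]
    exact Subgroup.commutator_mono le_top le_top
  exact h2 ⟨c, hc, rfl⟩

end pgroup

variable {G : Type*} [Group G] [Finite G] {p : ℕ} [Fact p.Prime]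

omit [Finite G] [Fact p.Prime] in
lemma aut_pow_conj {P : Subgroup G} {α : MulAut P} {g : G}
    (h : ∀ x : P, ((α x : P) : G) = g * x * g⁻¹) (n : ℕ) :
    ∀ x : P, (((α ^ n) x : P) : G) = g ^ n * x * (g ^ n)⁻¹ := by
  induction n with
  | zero => intro x; simp
  | succ n ih =>
    intro x
    rw [pow_succ', MulAut.mul_apply, h, ih, pow_succ']
    group

/-- `O^p(Aut_H(P))` is induced by elements of `O^p(H)`, stated for a subgroup `A` of `Aut(P)` all
of whose elements are induced by conjugation in `G` -/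
lemma pResidual_aut_le {P : Subgroup G} (A : Subgroup (MulAut P))
    (hA : ∀ α ∈ A, ∃ g : G, ∀ x : P, ((α x : P) : G) = g * x * g⁻¹) :
    (pResidual p A).map A.subtype ≤ autInducedBy (pResidual p G) P := by
  rw [Subgroup.map_le_iff_le_comap]
  apply (Subgroup.closure_le _).mpr
  intro α hα
  have hα' : Nat.Coprime (orderOf α) p := hα
  obtain ⟨g, hg⟩ := hA α α.2
  obtain ⟨k, hk⟩ := exists_pow_mem_pResidual p g
  have h1 : ((α : MulAut P)) ^ (p ^ k) ∈ autInducedBy (pResidual p G) P :=
    mem_autInducedBy_iff.mpr ⟨_, hk, aut_pow_conj hg _⟩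
  obtain ⟨t, ht⟩ := exists_pow_eq_self_of_coprime (x := α) (n := p ^ k)
    (Nat.Coprime.pow_left k hα'.symm)
  show (α : MulAut P) ∈ autInducedBy (pResidual p G) P
  have h2 : (α : MulAut P) = (((α : MulAut P)) ^ (p ^ k)) ^ t := by
    conv_lhs => rw [← ht]
    rfl
  rw [h2]
  exact Subgroup.pow_mem _ h1 t

omit [Finite G] in
lemma groupFS_aut_conj {S P : Subgroup G} (hP : P ≤ S) {α : MulAut P}
    (hα : α ∈ (groupFusionSystem S).autGroup P) :
    ∃ g : G, ∀ x : P, ((α x : P) : G) = g * x * g⁻¹ := by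
  obtain ⟨-, -, g, hg⟩ := isMap_groupFS.mp ((mem_autGroup_iff hP).mp hα)
  exact ⟨g, fun x => by rw [← autFun_apply, hg x x.2]⟩

theorem hyperfocal_le (S : Sylow p G) :
    (groupFusionSystem (S : Subgroup G)).hyperfocalSubgroup p ≤
      (S : Subgroup G) ⊓ pResidual p G := by
  apply (Subgroup.closure_le _).mpr
  rintro _ ⟨P, α, x, hP, hα, rfl⟩
  refine ⟨Subgroup.mul_mem _ (Subgroup.inv_mem _ (hP x.2)) (hP ((α : MulAut P) x).2), ?_⟩
  have h1 := pResidual_aut_le (p := p) _ (fun α hα => groupFS_aut_conj hP hα) ⟨α, hα, rfl⟩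
  obtain ⟨h, hh, hαh⟩ := mem_autInducedBy_iff.mp h1
  have hn := pResidual_normal (G := G) p
  have h2 : (((α : MulAut P) x : P) : G) = h * x * h⁻¹ := hαh x
  show (x : G)⁻¹ * (((α : MulAut P) x : P) : G) ∈ pResidual p G
  rw [h2]
  have e : (x : G)⁻¹ * (h * x * h⁻¹) = ((x : G)⁻¹ * h * (x : G)⁻¹⁻¹) * h⁻¹ := by group
  rw [e]
  exact Subgroup.mul_mem _ (hn.conj_mem h hh _) (Subgroup.inv_mem _ hh)

omit [Finite G] [Fact p.Prime] in
lemma pResidual_pResidual : pResidual p ↥(pResidual p G) = ⊤ := by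
  rw [eq_top_iff]
  rintro ⟨k, hk⟩ -
  have hk' : k ∈ Subgroup.closure {g : G | Nat.Coprime (orderOf g) p} := hk
  induction hk' using Subgroup.closure_induction with
  | mem g hg =>
    apply mem_pResidual_of_coprime
    rw [Subgroup.orderOf_mk]
    exact hg
  | one => exact Subgroup.one_mem _
  | mul a b ha hb iha ihb => exact Subgroup.mul_mem _ (iha ha) (ihb hb)
  | inv a ha iha => exact Subgroup.inv_mem _ (iha ha)

omit [Finite G] [Fact p.Prime] in
lemma subFS_autGroup_le {S H T : Subgroup G} (hTH : T ≤ H) (hTS : T ≤ S) {P : Subgroup G}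
    (hP : P ≤ T) :
    (fusionSystemOfSubgroup H T hTH).autGroup P ≤ (groupFusionSystem S).autGroup P := by
  intro α hα
  obtain ⟨-, h2, g, -, hg⟩ := isMap_subFS.mp ((mem_autGroup_iff hP).mp hα)
  exact (mem_autGroup_iff (hP.trans hTS)).mpr
    (isMap_groupFS.mpr ⟨hP.trans hTS, fun x hx => hTS (h2 x hx), g, hg⟩)

open scoped commutatorElement in
theorem le_hyperfocal (S : Sylow p G) :
    (S : Subgroup G) ⊓ pResidual p G ≤
      (groupFusionSystem (S : Subgroup G)).hyperfocalSubgroup p := by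
  have hKn : (pResidual p G).Normal := pResidual_normal p
  have hTK : (S : Subgroup G) ⊓ pResidual p G ≤ pResidual p G := inf_le_right
  have hsyl : SylIn p ((S : Subgroup G) ⊓ pResidual p G) (pResidual p G) :=
    SylIn.inf_of_normal (H := ⊤) le_top (sylIn_top_of_sylow S) le_top
      (by rw [Subgroup.normalizer_eq_top])
  have hsat := subFS_saturated hTK hsyl
  have hTp : IsPGroup p ↥((S : Subgroup G) ⊓ pResidual p G) := S.isPGroup'.to_le inf_le_left
  have hfoc := Cfsg.Agent.S5092.result p hTp _ hsat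
  have hsc := Cfsg.Agent.S5124.result p hTp _ hsat
  generalize hT : (S : Subgroup G) ⊓ pResidual p G = T at *
  have hTS : T ≤ (S : Subgroup G) := hT ▸ inf_le_left
  -- Step A
  have hA : T ≤ (fusionSystemOfSubgroup (pResidual p G) T hTK).focalSubgroup := by
    obtain ⟨R, hR⟩ := hsyl
    have h1 : (R : Subgroup ↥(pResidual p G)) ≤ commutator ↥(pResidual p G) := by
      have := Lead.pResidual_inf_le_commutator (p := p) (R : Subgroup ↥(pResidual p G)) R.isPGroup'
      rwa [pResidual_pResidual, top_inf_eq] at this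
    have h2 : (R : Subgroup ↥(pResidual p G)) ≤
        Subgroup.focalSubgroup (R : Subgroup ↥(pResidual p G)) := by
      rw [← Subgroup.commutator_inf_eq_focalSubgroup R]
      exact le_inf h1 le_rfl
    have h3 : Subgroup.focalSubgroup (R : Subgroup ↥(pResidual p G)) ≤
        ((fusionSystemOfSubgroup (pResidual p G) T hTK).focalSubgroup).comap
          (pResidual p G).subtype := by
      rw [Subgroup.focalSubgroup_def, Subgroup.closure_le]
      rintro g ⟨hgR, x, hxR, u, rfl⟩
      rw [hR] at hgR hxR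
      have hxT : (x : G) ∈ T := Subgroup.mem_subgroupOf.mp hxR
      have hgT : (x : G) * u * (x : G)⁻¹ * (u : G)⁻¹ ∈ T := Subgroup.mem_subgroupOf.mp hgR
      have huxT : (u : G) * (x : G)⁻¹ * (u : G)⁻¹ ∈ T := by
        have := T.mul_mem (T.inv_mem hxT) hgT
        have e : (x : G)⁻¹ * ((x : G) * u * (x : G)⁻¹ * (u : G)⁻¹) =
            (u : G) * (x : G)⁻¹ * (u : G)⁻¹ := by group
        rwa [e] at this
      apply Subgroup.subset_closure
      refine ⟨T ⊓ T.comap (MulAut.conj (u : G)).toMonoidHom,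
        conjHom _ (u : G), ⟨(x : G)⁻¹, T.inv_mem hxT, huxT⟩,
        ⟨inf_le_left, fun z => z.2.2, u, u.2, fun _ => rfl⟩, ?_⟩
      show (x : G) * u * (x : G)⁻¹ * (u : G)⁻¹ = ((x : G)⁻¹)⁻¹ * ((u : G) * (x : G)⁻¹ * (u : G)⁻¹)
      group
    intro t ht
    have h4 : (⟨t, hTK ht⟩ : ↥(pResidual p G)) ∈ (R : Subgroup ↥(pResidual p G)) := by
      rw [hR]; exact Subgroup.mem_subgroupOf.mpr ht
    exact h3 (h2 h4)
  -- Step B
  have hB : T ≤ (fusionSystemOfSubgroup (pResidual p G) T hTK).hyperfocalSubgroup p := by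
    have hfinT : Finite T := Finite.of_injective _ T.subtype_injective
    have hle := hsc.1
    have hN : (((fusionSystemOfSubgroup (pResidual p G) T hTK).hyperfocalSubgroup p).subgroupOf
        T).Normal := by
      constructor
      intro n hn g
      exact Subgroup.mem_subgroupOf.mpr
        (stronglyClosed_conj_mem hsc g.2 (Subgroup.mem_subgroupOf.mp hn))
    have hcomm : (⁅T, T⁆ : Subgroup G).subgroupOf T = commutator T := by
      rw [← Subgroup.map_subtype_commutator]
      exact Subgroup.comap_map_eq_self_of_injective T.subtype_injective _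
    have hsup : ((fusionSystemOfSubgroup (pResidual p G) T hTK).hyperfocalSubgroup p).subgroupOf T
        ⊔ commutator T = ⊤ := by
      rw [← hcomm, ← Subgroup.subgroupOf_sup hle (Subgroup.commutator_le_self T), ← hfoc]
      exact Subgroup.subgroupOf_eq_top.mpr hA
    exact Subgroup.subgroupOf_eq_top.mp (eq_top_of_sup_commutator hTp _ hsup)
  -- Step C
  refine hB.trans ?_
  apply (Subgroup.closure_le _).mpr
  rintro _ ⟨P, α, x, hP, hα, rfl⟩
  apply Subgroup.subset_closure
  exact ⟨P, Subgroup.inclusion (subFS_autGroup_le hTK hTS hP) α, x, hP.trans hTS,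
    map_mem_pResidual _ (Subgroup.inclusion_injective _) hα, rfl⟩

theorem hyperfocal_eq (S : Sylow p G) :
    (groupFusionSystem (S : Subgroup G)).hyperfocalSubgroup p =
      (S : Subgroup G) ⊓ pResidual p G :=
  le_antisymm (hyperfocal_le S) (le_hyperfocal S)

end Cfsg.Agent.Lib.Helper26
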