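import Cfsg.Agent.Lib.Helper26.Hyperfocal

set_option autoImplicit false

namespace Cfsg.Agent.Lib.Helper26

open Cfsg Cfsg.FusionSystem

variable {Ω : Type*} [Group Ω] {S : Subgroup Ω} {p : ℕ} [Fact p.Prime]

lemma autGroup_le_of_subsystem {T : Subgroup Ω} {E : FusionSystem T} {F : FusionSystem S}
    (hEF : E.IsSubsystemOf F) {P : Subgroup Ω} (hPT : P ≤ T) (hPS : P ≤ S) :
    E.autGroup P ≤ F.autGroup P := fun _ hα =>
  (mem_autGroup_iff hPS).mpr (isSubsystemOf_iff.mp hEF _ _ ((mem_autGroup_iff hPT).mp hα))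

/-- a saturated subsystem over `T` lies in every system over `T` containing the `O^p(Aut_F(P))` -/
theorem le_of_pPowerIndex {F : FusionSystem S} {T : Subgroup Ω} [Finite T] (hT : IsPGroup p T)
    (hTS : T ≤ S) {E E' : FusionSystem T} (hE : E.IsSaturated p) (hEF : E.IsSubsystemOf F)
    (hE' : ∀ P : Subgroup Ω, P ≤ T →
      (pResidual p (F.autGroup P)).map (F.autGroup P).subtype ≤ E'.autGroup P) : E ≤ E' := by
  apply le_of_pResidual_le hT hE
  intro P hP
  have hPT := (fullyNormalized_of_eq_or_essential hP).1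
  rintro _ ⟨α, hα, rfl⟩
  apply hE' P hPT
  exact ⟨Subgroup.inclusion (autGroup_le_of_subsystem hEF hPT (hPT.trans hTS)) α,
    map_mem_pResidual _ (Subgroup.inclusion_injective _) hα, rfl⟩

theorem pPowerIndex_unique {F : FusionSystem S} {T T' : Subgroup Ω} (h : T = T') [Finite T]
    (hT : IsPGroup p T) (hTS : T ≤ S) (E : FusionSystem T) (E' : FusionSystem T')
    (hEs : E.IsSaturated p) (hE's : E'.IsSaturated p) (hEi : E.HasPPowerIndexIn F p)
    (hE'i : E'.HasPPowerIndexIn F p) (P : Subgroup Ω) : E.Hom P = E'.Hom P := by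
  subst h
  exact Set.Subset.antisymm (le_of_pPowerIndex hT hTS hEs hEi.1 hE'i.2.2 P)
    (le_of_pPowerIndex hT hTS hE's hE'i.1 hEi.2.2 P)

theorem subFS_pPowerIndex {G : Type*} [Group G] [Finite G] (S : Sylow p G) :
    (fusionSystemOfSubgroup (pResidual p G) ((S : Subgroup G) ⊓ pResidual p G)
      inf_le_right).HasPPowerIndexIn (groupFusionSystem (S : Subgroup G)) p := by
  refine ⟨?_, hyperfocal_le S, fun P hP => ?_⟩
  · rintro P φ ⟨hP, hφ, g, -, hg⟩
    exact ⟨hP.trans inf_le_left, fun x => (hφ x).1, g, hg⟩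
  · refine (pResidual_aut_le (p := p) _
      (fun α hα => groupFS_aut_conj (hP.trans inf_le_left) hα)).trans ?_
    intro α hα
    obtain ⟨h, hh, hαh⟩ := mem_autInducedBy_iff.mp hα
    rw [mem_autGroup_iff hP, isMap_subFS]
    exact ⟨hP, fun x hx => hP (autFun_mem α hx), h, hh, fun x hx => by
      rw [autFun_of_mem α hx, hαh]⟩

theorem subFS_pResidual_saturated {G : Type*} [Group G] [Finite G] (S : Sylow p G) :
    (fusionSystemOfSubgroup (pResidual p G) ((S : Subgroup G) ⊓ pResidual p G)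
      inf_le_right).IsSaturated p := by
  have hKn : (pResidual p G).Normal := pResidual_normal p
  exact subFS_saturated _ (SylIn.inf_of_normal (H := ⊤) le_top (sylIn_top_of_sylow S) le_top
      (by rw [Subgroup.normalizer_eq_top]))

end Cfsg.Agent.Lib.Helper26
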