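import Cfsg.Agent.Lib.Helper2.CharEquiv
import Cfsg.Agent.Lib.Helper2.CharInner
import Cfsg.Agent.Lib.Helper25.Irr
import Cfsg.Agent.Lib.Helper25.Gallagher
import Cfsg.Agent.Lib.Helper25.Kernel2

set_option autoImplicit false

namespace Cfsg.Agent.Lib.Helper26

open Cfsg

universe u

variable {G : Type u} [Group G]

section construction

variable {V : Type} [AddCommGroup V] [Module ℂ V]
variable (N : Subgroup G) [hN : N.Normal] (ρ : Representation ℂ N V)

/-- the central extension attached to an invariant representation `ρ` of `N ⊴ G`: pairs `(g, M)`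
with `M ρ(n) M⁻¹ = ρ(g n g⁻¹)` and `det(M)^k = 1`. -/
def extGrp (k : ℕ) : Subgroup (G × (Module.End ℂ V)ˣ) where
  carrier := {x | (∀ n : N, (x.2 : Module.End ℂ V) * ρ n = ρ (MulAut.conjNormal x.1 n) * x.2) ∧
    LinearMap.det (x.2 : Module.End ℂ V) ^ k = 1}
  mul_mem' := by
    rintro ⟨g, M⟩ ⟨g', M'⟩ ⟨h1, h2⟩ ⟨h1', h2'⟩
    refine ⟨fun n => ?_, ?_⟩
    · show ((M * M' : (Module.End ℂ V)ˣ) : Module.End ℂ V) * ρ n
        = ρ (MulAut.conjNormal (g * g') n) * ((M * M' : (Module.End ℂ V)ˣ) : Module.End ℂ V)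
      rw [Units.val_mul, mul_assoc, h1' n, ← mul_assoc, h1, map_mul, MulAut.mul_apply, mul_assoc]
    · show LinearMap.det ((M * M' : (Module.End ℂ V)ˣ) : Module.End ℂ V) ^ k = 1
      rw [Units.val_mul, map_mul, mul_pow, h2, h2', one_mul]
  one_mem' := by
    refine ⟨fun n => ?_, ?_⟩
    · show ((1 : (Module.End ℂ V)ˣ) : Module.End ℂ V) * ρ n
        = ρ (MulAut.conjNormal (1 : G) n) * ((1 : (Module.End ℂ V)ˣ) : Module.End ℂ V)
      rw [map_one, MulAut.one_apply, Units.val_one, one_mul, mul_one]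
    · show LinearMap.det ((1 : (Module.End ℂ V)ˣ) : Module.End ℂ V) ^ k = 1
      rw [Units.val_one, map_one, one_pow]
  inv_mem' := by
    rintro ⟨g, M⟩ ⟨h1, h2⟩
    refine ⟨fun n => ?_, ?_⟩
    · show ((M⁻¹ : (Module.End ℂ V)ˣ) : Module.End ℂ V) * ρ n
        = ρ (MulAut.conjNormal g⁻¹ n) * ((M⁻¹ : (Module.End ℂ V)ˣ) : Module.End ℂ V)
      have h3 := h1 (MulAut.conjNormal g⁻¹ n)
      rw [← MulAut.mul_apply, ← map_mul, mul_inv_cancel, map_one, MulAut.one_apply] at h3
      calc ((M⁻¹ : (Module.End ℂ V)ˣ) : Module.End ℂ V) * ρ n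
          = ((M⁻¹ : (Module.End ℂ V)ˣ) : Module.End ℂ V) * (ρ n * M) * (M⁻¹ : (Module.End ℂ V)ˣ) := by
            rw [mul_assoc, mul_assoc, Units.mul_inv, mul_one]
        _ = _ := by rw [← h3, ← mul_assoc, Units.inv_mul, one_mul]
    · show LinearMap.det ((M⁻¹ : (Module.End ℂ V)ˣ) : Module.End ℂ V) ^ k = 1
      have h3 : LinearMap.det ((M⁻¹ : (Module.End ℂ V)ˣ) : Module.End ℂ V) * LinearMap.det (M : Module.End ℂ V) = 1 := by
        rw [← map_mul, Units.inv_mul, map_one]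
      have h4 := congrArg (· ^ k) h3
      simp only [mul_pow, h2, mul_one, one_pow] at h4
      exact h4

variable {N ρ} in
lemma mem_extGrp {k : ℕ} {x : G × (Module.End ℂ V)ˣ} : x ∈ extGrp N ρ k ↔
    (∀ n : N, (x.2 : Module.End ℂ V) * ρ n = ρ (MulAut.conjNormal x.1 n) * x.2) ∧
    LinearMap.det (x.2 : Module.End ℂ V) ^ k = 1 := Iff.rfl

/-- projection to `G` -/
def extProj (k : ℕ) : extGrp N ρ k →* G := (MonoidHom.fst G _).comp (extGrp N ρ k).subtype

/-- the tautological representation -/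
def extRep (k : ℕ) : Representation ℂ (extGrp N ρ k) V :=
  (Units.coeHom (Module.End ℂ V)).comp ((MonoidHom.snd G _).comp (extGrp N ρ k).subtype)


lemma extRep_apply (k : ℕ) (x : extGrp N ρ k) : extRep N ρ k x = (x.1.2 : Module.End ℂ V) := rfl

lemma extProj_apply (k : ℕ) (x : extGrp N ρ k) : extProj N ρ k x = x.1.1 := rfl

/-- the copy of `N` inside the extension -/
noncomputable def extSec : N →* extGrp N ρ (Nat.card N) :=
  MonoidHom.codRestrict (MonoidHom.prod N.subtype (MonoidHom.toHomUnits ρ)) _ (by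
    intro n
    refine ⟨fun n' => ?_, ?_⟩
    · show ((MonoidHom.toHomUnits ρ n : (Module.End ℂ V)ˣ) : Module.End ℂ V) * ρ n'
        = ρ (MulAut.conjNormal (n : G) n') * (MonoidHom.toHomUnits ρ n : (Module.End ℂ V)ˣ)
      rw [MonoidHom.coe_toHomUnits, ← map_mul, ← map_mul]
      congr 1
      apply Subtype.ext
      simp
    · show LinearMap.det ((MonoidHom.toHomUnits ρ n : (Module.End ℂ V)ˣ) : Module.End ℂ V)
        ^ (Nat.card N) = 1
      rw [MonoidHom.coe_toHomUnits, ← map_pow, ← map_pow, pow_card_eq_one', map_one, map_one])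

lemma extProj_extSec (n : N) : extProj N ρ _ (extSec N ρ n) = n := rfl

lemma extRep_extSec (n : N) : extRep N ρ _ (extSec N ρ n) = ρ n := rfl

lemma extSec_range_normal : (extSec N ρ).range.Normal := by
  constructor
  rintro _ ⟨n, rfl⟩ x
  refine ⟨MulAut.conjNormal x.1.1 n, ?_⟩
  apply Subtype.ext
  apply Prod.ext
  · show ((MulAut.conjNormal x.1.1 n : N) : G) = x.1.1 * n * x.1.1⁻¹
    simp
  · apply Units.ext
    show ρ (MulAut.conjNormal x.1.1 n) = (x.1.2 : Module.End ℂ V) * ρ n *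
      ((x.1.2⁻¹ : (Module.End ℂ V)ˣ) : Module.End ℂ V)
    rw [x.2.1 n, mul_assoc, Units.mul_inv, mul_one]

lemma extRep_irreducible (hρ : ρ.IsIrreducible) : (extRep N ρ (Nat.card N)).IsIrreducible := by
  rw [Helper25.isIrreducible_iff] at hρ ⊢
  refine ⟨hρ.1, fun U hU => hρ.2 U (fun n v hv => ?_)⟩
  exact hU (extSec N ρ n) v hv

variable [FiniteDimensional ℂ V]

lemma ker_extProj_scalar (hρ : ρ.IsIrreducible) (k : ℕ) {x : extGrp N ρ k}
    (hx : x ∈ (extProj N ρ k).ker) : ∃ c : ℂ, (x.1.2 : Module.End ℂ V) = c • LinearMap.id := by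
  have h1 : x.1.1 = 1 := hx
  refine Helper2.schur ρ _ (fun n => ?_)
  have h2 := x.2.1 n
  rw [h1, map_one, MulAut.one_apply] at h2
  exact h2

lemma ker_extProj_le_center (hρ : ρ.IsIrreducible) (k : ℕ) :
    (extProj N ρ k).ker ≤ Subgroup.center (extGrp N ρ k) := by
  intro x hx
  obtain ⟨c, hc⟩ := ker_extProj_scalar N ρ hρ k hx
  have h1 : x.1.1 = 1 := hx
  rw [Subgroup.mem_center_iff]
  intro y
  apply Subtype.ext
  apply Prod.ext
  · show y.1.1 * x.1.1 = x.1.1 * y.1.1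
    rw [h1, mul_one, one_mul]
  · apply Units.ext
    show (y.1.2 : Module.End ℂ V) * x.1.2 = (x.1.2 : Module.End ℂ V) * y.1.2
    rw [hc]
    ext v
    simp

lemma finite_extGrp [Finite G] (hρ : ρ.IsIrreducible) {k : ℕ} (hk : 0 < k) :
    Finite (extGrp N ρ k) := by
  have hd : 0 < Module.finrank ℂ V := Helper2.finrank_pos_of_irr ρ
  have hV : Nontrivial V := Helper2.nontrivial_of_irr ρ
  have hker : Finite (extProj N ρ k).ker := by
    choose c hc using fun x : (extProj N ρ k).ker => ker_extProj_scalar N ρ hρ k x.2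
    have hroot : ∀ x, c x ∈ Polynomial.nthRootsFinset (Module.finrank ℂ V * k) (1 : ℂ) := by
      intro x
      rw [Polynomial.mem_nthRootsFinset (Nat.mul_pos hd hk)]
      have h2 := x.1.2.2
      rw [hc x, LinearMap.det_smul, LinearMap.det_id, mul_one, ← pow_mul] at h2
      exact h2
    refine Finite.of_injective
      (fun x => (⟨c x, hroot x⟩ : Polynomial.nthRootsFinset (Module.finrank ℂ V * k) (1 : ℂ))) ?_
    intro x y hxy
    have h3 : c x = c y := congrArg Subtype.val hxy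
    apply Subtype.ext
    apply Subtype.ext
    apply Prod.ext
    · have h1 : x.1.1.1 = 1 := x.2
      have h2 : y.1.1.1 = 1 := y.2
      rw [h1, h2]
    · apply Units.ext
      rw [hc x, hc y, h3]
  have hq : Finite (extGrp N ρ k ⧸ (extProj N ρ k).ker) :=
    Finite.of_injective _ (QuotientGroup.kerLift_injective (extProj N ρ k))
  exact Finite.of_equiv _ (Subgroup.groupEquivQuotientProdSubgroup (s := (extProj N ρ k).ker)).symm

lemma extProj_surjective [Finite N] (hρ : ρ.IsIrreducible)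
    (hinv : ∀ (g : G) (n : N), ρ.character (MulAut.conjNormal g n) = ρ.character n) (k : ℕ) :
    Function.Surjective (extProj N ρ k) := by
  intro g
  have hd : 0 < Module.finrank ℂ V := Helper2.finrank_pos_of_irr ρ
  let ρg : Representation ℂ N V := ρ.comp (MulAut.conjNormal g).toMonoidHom
  have hchar : ρ.character = ρg.character := by
    funext n
    exact (hinv g n).symm
  obtain ⟨e⟩ := Helper2.equiv_of_char_eq ρ ρg hchar
  let M₀ : (Module.End ℂ V)ˣ := LinearMap.GeneralLinearGroup.ofLinearEquiv e.toLinearEquiv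
  have hM₀ : (M₀ : Module.End ℂ V) = e.toLinearMap := rfl
  have hdet0 : LinearMap.det (M₀ : Module.End ℂ V) ≠ 0 := by
    intro h0
    have h3 : LinearMap.det ((M₀⁻¹ : (Module.End ℂ V)ˣ) : Module.End ℂ V) *
        LinearMap.det (M₀ : Module.End ℂ V) = 1 := by
      rw [← map_mul, Units.inv_mul, map_one]
    rw [h0, mul_zero] at h3
    exact zero_ne_one h3
  obtain ⟨c, hc⟩ := IsAlgClosed.exists_pow_nat_eq (LinearMap.det (M₀ : Module.End ℂ V))⁻¹ hd
  have hc0 : c ≠ 0 := by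
    rintro rfl
    rw [zero_pow hd.ne'] at hc
    exact inv_ne_zero hdet0 hc.symm
  let C : (Module.End ℂ V)ˣ := Units.map (algebraMap ℂ (Module.End ℂ V)).toMonoidHom (Units.mk0 c hc0)
  have hC : (C : Module.End ℂ V) = algebraMap ℂ (Module.End ℂ V) c := rfl
  refine ⟨⟨(g, C * M₀), fun n => ?_, ?_⟩, rfl⟩
  · show ((C * M₀ : (Module.End ℂ V)ˣ) : Module.End ℂ V) * ρ n
      = ρ (MulAut.conjNormal g n) * ((C * M₀ : (Module.End ℂ V)ˣ) : Module.End ℂ V)
    have h1 : (M₀ : Module.End ℂ V) * ρ n = ρ (MulAut.conjNormal g n) * M₀ :=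
      e.isIntertwining' n
    rw [Units.val_mul, mul_assoc, h1, hC, ← mul_assoc, ← mul_assoc, Algebra.commutes]
  · show LinearMap.det ((C * M₀ : (Module.End ℂ V)ˣ) : Module.End ℂ V) ^ k = 1
    rw [Units.val_mul, map_mul, hC, Algebra.algebraMap_eq_smul_one, LinearMap.det_smul, map_one,
      mul_one, hc, inv_mul_cancel₀ hdet0, one_pow]

end construction


open scoped ComplexConjugate

/-- Gallagher: if `ϑ'` is an irreducible character of `Γ` with irreducible restriction to `Ñ ⊴ Γ`,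
every irreducible `ψ` over that restriction is `β * ϑ'` with `β` irreducible, `Ñ ≤ ker β`. -/
theorem gallagher_ext {Γ : Type u} [Group Γ] [Fintype Γ] (N' : Subgroup Γ) [N'.Normal]
    [Fintype N'] {ϑ' : Γ → ℂ} (hϑ' : IsIrrCharacter Γ ϑ')
    (hres : IsIrrCharacter N' (fun n : N' => ϑ' n)) {ψ : Γ → ℂ} (hψ : IsIrrCharacter Γ ψ)
    (hcon : classInner (fun n : N' => ψ n) (fun n : N' => ϑ' n) ≠ 0) :
    ∃ β : Γ → ℂ, IsIrrCharacter Γ β ∧ (∀ n ∈ N', β n = β 1) ∧ β * ϑ' = ψ := by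
  classical
  have hχc := Helper7.isCharacter_of_irr hϑ'
  have hψc := Helper7.isCharacter_of_irr hψ
  have hcfχ := Helper7.isClassFunction_of_isCharacter hχc
  have hcfψ := Helper7.isClassFunction_of_isCharacter hψc
  have hone : ((fun _ => 1 : N' → ℂ) * fun n : N' => ϑ' n) = fun n : N' => ϑ' n := by
    funext n
    simp
  obtain ⟨-, -, g3⟩ := Helper25.gallagher_core N'
    (φ := fun _ => 1) (ϑ := fun n : N' => ϑ' n) Helper7.isIrrCharacter_one
    (fun g => rfl) (fun g => Helper25.conjFun_restrict N' hcfχ g)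
    (by rw [hone]; exact hres) hϑ' (fun n => rfl)
  rw [hone] at g3
  have hker : ∀ ξ : Γ → ℂ, IsIrrCharacter Γ ξ →
      ((∀ n ∈ N', ξ n = ξ 1) ↔ classInner (indFun N' (fun _ => 1)) ξ ≠ 0) := by
    intro ξ hξ
    have hcfξ := Helper7.isClassFunction_of_isCharacter (Helper7.isCharacter_of_irr hξ)
    rw [Helper25.frobenius_reciprocity N' _ ξ hcfξ]
    have h1 := Helper25.avg_normal N' hξ 1
    simp only [mul_one] at h1
    have h2 : classInner (fun _ : N' => (1 : ℂ)) (fun h : N' => ξ h)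
        = conj ((Nat.card N' : ℂ)⁻¹ * ∑ n : N', ξ (n : Γ)) := by
      unfold classInner
      simp [map_sum]
    rw [h2, h1]
    split_ifs with h
    · exact ⟨fun _ => by simpa using Helper7.irr_apply_one_ne_zero hξ, fun _ => h⟩
    · exact ⟨fun h' => absurd h' h, fun h' => absurd (map_zero _) h'⟩
  have h3 : classInner (indFun N' (fun n : N' => ϑ' n)) ψ ≠ 0 := by
    rw [Helper25.frobenius_reciprocity N' _ ψ hcfψ, ← Helper2.classInner_conj_symm]
    exact (map_ne_zero _).mpr hcon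
  obtain ⟨β, hβ, hβ1, hβ2⟩ := g3 ψ hψ h3
  exact ⟨β, hβ, (hker β hβ).mpr hβ1, hβ2⟩

/-- The finite central extension attached to a `G`-invariant irreducible character `ϑ` of `N ⊴ G`,
in which `ϑ` extends. -/
theorem exists_central_ext [Finite G] (N : Subgroup G) [hN : N.Normal] {ϑ : N → ℂ}
    (hϑ : IsIrrCharacter N ϑ)
    (hinv : ∀ (g : G) (n : N), ϑ ⟨g * n * g⁻¹, hN.conj_mem n n.2 g⟩ = ϑ n) :
    ∃ (Γ : Type u) (_ : Group Γ) (_ : Finite Γ) (π : Γ →* G) (σ : N →* Γ) (ϑ' : Γ → ℂ),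
      Function.Surjective π ∧ π.ker ≤ Subgroup.center Γ ∧ (∀ n, π (σ n) = n) ∧ σ.range.Normal ∧
      IsIrrCharacter Γ ϑ' ∧ ∀ n, ϑ' (σ n) = ϑ n := by
  obtain ⟨d, ρ, hρ, rfl⟩ := hϑ
  have hk : 0 < Nat.card N := Nat.card_pos
  refine ⟨extGrp N ρ (Nat.card N), inferInstance, finite_extGrp N ρ hρ hk,
    extProj N ρ _, extSec N ρ, (extRep N ρ _).character,
    extProj_surjective N ρ hρ (fun g n => ?_) _, ker_extProj_le_center N ρ hρ _,
    fun n => rfl, extSec_range_normal N ρ,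
    Helper25.isIrrCharacter_of_rep _ (extRep_irreducible N ρ hρ), fun n => rfl⟩
  rw [← hinv g n]
  congr 1

end Cfsg.Agent.Lib.Helper26
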