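import Cfsg.Agent.Lib.Helper26.ProjExt2

set_option autoImplicit false

namespace Cfsg.Agent.Lib.Helper26

open Cfsg
open scoped ComplexConjugate

universe u

variable {G : Type u} [Group G]

lemma exists_irr_over [Fintype G] (N : Subgroup G) [Fintype N] {ϑ : N → ℂ}
    (hϑ : IsIrrCharacter N ϑ) :
    ∃ χ : G → ℂ, IsIrrCharacter G χ ∧ classInner (fun n : N => χ n) ϑ ≠ 0 := by
  have hInd : IsCharacter G (indFun N ϑ) :=
    Helper25.isCharacter_indFun N ϑ (Helper7.isCharacter_of_irr hϑ)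
  have hne : indFun N ϑ ≠ 0 := by
    intro h0
    have h1 := congrFun h0 1
    rw [Helper25.indFun_one] at h1
    have h2 : (N.index : ℂ) ≠ 0 := by exact_mod_cast N.index_ne_zero_of_finite
    exact mul_ne_zero h2 (Helper7.irr_apply_one_ne_zero hϑ) h1
  obtain ⟨χ, hχ, hc⟩ := Helper25.exists_irr_constituent hInd hne
  refine ⟨χ, hχ, ?_⟩
  rw [Helper25.frobenius_reciprocity N ϑ χ
    (Helper7.isClassFunction_of_isCharacter (Helper7.isCharacter_of_irr hχ))] at hc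
  rw [← Helper2.classInner_conj_symm]
  exact (map_ne_zero _).mpr hc

/-- an invariant irreducible character extends when the quotient is cyclic (Isaacs 11.22) -/
theorem extends_of_cyclic [Finite G] (N : Subgroup G) [hN : N.Normal] (hcyc : IsCyclic (G ⧸ N))
    {ϑ : N → ℂ} (hϑ : IsIrrCharacter N ϑ)
    (hinv : ∀ (g : G) (n : N), ϑ ⟨g * n * g⁻¹, hN.conj_mem n n.2 g⟩ = ϑ n) :
    ∃ χ : G → ℂ, IsIrrCharacter G χ ∧ ∀ n : N, χ n = ϑ n := by
  classical
  cases nonempty_fintype G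
  have : Fintype N := Fintype.ofFinite _
  obtain ⟨χ, hχ, hcon⟩ := exists_irr_over N hϑ
  obtain ⟨Γ, _, _, π, σ, ϑ', d⟩ := exists_cext N hϑ hinv
  obtain ⟨β, ⟨m, τ, hτ, rfl⟩, hβ1, hβ2⟩ := d.factor χ hχ (sum_ne_zero_of_classInner hcon)
  obtain ⟨g, hg⟩ := hcyc.exists_generator
  obtain ⟨g₀, rfl⟩ := QuotientGroup.mk_surjective g
  obtain ⟨x, rfl⟩ := d.surj g₀
  have hdec : ∀ γ : Γ, ∃ (i : ℤ) (c : ℂ), τ γ = c • τ (x ^ i) := by
    intro γ
    obtain ⟨i, hi⟩ := Subgroup.mem_zpowers_iff.mp (hg (QuotientGroup.mk (π γ)))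
    have h1 : π ((x ^ i)⁻¹ * γ) ∈ N := by
      rw [map_mul, map_inv, map_zpow]
      rw [← QuotientGroup.mk_zpow] at hi
      exact QuotientGroup.eq.mp hi
    obtain ⟨c, hc⟩ := d.scalar_of_mem τ hτ hβ1 h1
    refine ⟨i, c, ?_⟩
    have h2 : γ = x ^ i * ((x ^ i)⁻¹ * γ) := by group
    conv_lhs => rw [h2, map_mul, hc]
    rw [mul_smul_comm, mul_one]
  have hscal : ∀ γ ∈ (⊤ : Subgroup Γ), ∃ c : ℂ, τ γ = c • (1 : Module.End ℂ (Fin m → ℂ)) := by
    intro γ _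
    refine Helper2.schur τ (τ γ) (fun γ' => ?_)
    obtain ⟨i, c, h1⟩ := hdec γ
    obtain ⟨j, c', h2⟩ := hdec γ'
    show τ γ * τ γ' = τ γ' * τ γ
    rw [h1, h2, smul_mul_smul_comm, smul_mul_smul_comm, ← map_mul, ← map_mul, ← zpow_add,
      ← zpow_add, add_comm, mul_comm c c']
  have hm := Helper24.finrank_dvd_index_of_scalar τ ⊤ hscal
  rw [Module.finrank_fin_fun, Subgroup.index_top, Nat.dvd_one] at hm
  refine ⟨χ, hχ, fun n => ?_⟩
  have h1 := hβ2 (σ n)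
  rw [d.sec, hβ1, d.ext, Representation.char_one, Module.finrank_fin_fun, hm] at h1
  rw [h1]; simp

end Cfsg.Agent.Lib.Helper26
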